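import Groth.Agent.Ega2.H296.AffGen
import Groth.Agent.Picfga.LineInv
import Groth.Agent.Ega1.TildePullback
import Groth.Agent.Ega2.QCohLocal
import Groth.Prelude.Def_Formal2

/-!
# Invertible modules on affine schemes and invertible modules over rings

* `isInvertible_tilde`, `exists_tilde`, `equiv_of_iso`;
* `injective_of`, `surjective_of`: the statements `Formal2.PicPullbackInjective/Surjective` for `Spec.map φ` in
  terms of modules.
-/

set_option autoImplicit false
universe u
open CategoryTheory CategoryTheory.Limits AlgebraicGeometry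
open scoped TensorProduct

namespace K730.PicSpec

open Groth.Agent

/-- The sheaf attached to an invertible module is invertible. -/
theorem isInvertible_tilde (A : Type u) [CommRing A] (N : Type u) [AddCommGroup N] [Module A N]
    [Module.Invertible A N] : PicF.IsInvertible (tilde (R := CommRingCat.of A) (ModuleCat.of A N)) := by
  obtain ⟨n, x, hx⟩ := Module.Finite.exists_fin (R := A) (M := N)
  refine Ega2.H296.AffGen.isInvertible_tilde (R := CommRingCat.of A) (Q := ModuleCat.of A N) fun p => ?_
  have hfin : ∀ p : PrimeSpectrum A, Module.finrank (Localization.AtPrime p.asIdeal)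
      (LocalizedModule p.asIdeal.primeCompl N) = 1 := fun p => Module.Invertible.finrank_eq_one _ _
  obtain ⟨i, a, ha, hy⟩ := Ega2.H296.InvAlg2.exists_genAt (R := A) (Q := N) x hx hfin p
  exact ⟨x i, a, ha, hy⟩

/-- `tilde` reflects isomorphisms. -/
theorem equiv_of_iso {A : Type u} [CommRing A] {M N : Type u} [AddCommGroup M] [Module A M] [AddCommGroup N]
    [Module A N] (e : tilde (R := CommRingCat.of A) (ModuleCat.of A M) ≅ tilde (R := CommRingCat.of A) (ModuleCat.of A N)) :
    Nonempty (M ≃ₗ[A] N) :=
  ⟨((tilde.fullyFaithfulFunctor (R := CommRingCat.of A)).preimageIso e).toLinearEquiv⟩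

/-- `tilde` preserves isomorphisms. -/
noncomputable def tildeMapIso {A : Type u} [CommRing A] {M N : Type u} [AddCommGroup M] [Module A M] [AddCommGroup N]
    [Module A N] (e : M ≃ₗ[A] N) :
    tilde (R := CommRingCat.of A) (ModuleCat.of A M) ≅ tilde (R := CommRingCat.of A) (ModuleCat.of A N) :=
  (tilde.functor (CommRingCat.of A)).mapIso e.toModuleIso

noncomputable def unitIso (A : Type u) [CommRing A] :
    tilde (R := CommRingCat.of A) (ModuleCat.of A A) ≅ Coh.structureModule (Spec (CommRingCat.of A)) :=
  tildeSelf (R := CommRingCat.of A)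

/-- Transport of invertibility along a ring isomorphism. -/
theorem invertible_of_bijective {A B : Type u} [CommRing A] [CommRing B] (φ : A →+* B) (hφ : Function.Bijective φ)
    (N : Type u) [AddCommGroup N] [Module B N] [Module A N] (hs : ∀ (a : A) (n : N), a • n = φ a • n)
    [Module.Invertible B N] : Module.Invertible A N := by
  let e := RingEquiv.ofBijective φ hφ
  let _ : Algebra B A := (e.symm : B →+* A).toAlgebra
  have hst : IsScalarTower B A N := ⟨fun b a n => by
    rw [Algebra.smul_def, mul_smul, hs]
    change φ (e.symm b) • (a • n) = b • (a • n)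
    rw [show φ (e.symm b) = e (e.symm b) from rfl, RingEquiv.apply_symm_apply]⟩
  have hself : IsLocalization (⊥ : Submonoid B) B := IsLocalization.self (by simp)
  have hloc : IsLocalization (⊥ : Submonoid B) A :=
    IsLocalization.isLocalization_of_algEquiv (⊥ : Submonoid B) (S := B)
      (AlgEquiv.ofRingEquiv (f := e.symm) (fun _ => rfl))
  have hl : IsLocalizedModule (⊥ : Submonoid B) (LinearMap.id : N →ₗ[B] N) := by
    refine ⟨?_, ?_, ?_⟩
    · rintro ⟨x, hx⟩
      obtain rfl : x = 1 := hx
      simp
    · intro y; exact ⟨(y, 1), by simp⟩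
    · intro x y h; exact ⟨1, by simpa using h⟩
  exact Module.Invertible.of_isLocalization (R := B) (M := N) (⊥ : Submonoid B) (LinearMap.id : N →ₗ[B] N)

theorem exists_tilde' (R : CommRingCat.{u}) (L : (Spec R).Modules) (hL : PicF.IsInvertible L) :
    Module.Invertible R Γ(L, ⊤) ∧
      Nonempty (L ≅ tilde (R := R) ((modulesSpecToSheaf.obj L).presheaf.obj (.op ⊤))) := by
  have hq : Coh.IsQCoh L := Ega2.QCohLocal.isQCoh_of_isInvertible hL
  have hi : IsIso (Scheme.Modules.fromTildeΓ (R := R) L) :=
    (isQuasicoherent_iff_isIso_fromTildeΓ (R := R) L).mp hq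
  have hinv : Module.Invertible Γ(Spec R, ⊤) Γ(L, ⊤) :=
    Picfga.LineInv.invertible_sections hL (isAffineOpen_top _)
  refine ⟨invertible_of_bijective (A := R) (B := Γ(Spec R, ⊤))
    (Scheme.ΓSpecIso R).inv.hom (ConcreteCategory.bijective_of_isIso _) Γ(L, ⊤) (fun a n => by
      refine (Scheme.Modules.smul_Spec_def (R := R) a n).trans ?_
      have : ((Spec R).presheaf.map (⊤ : (Spec R).Opens).leTop.op) = 𝟙 _ := (Spec R).presheaf.map_id _
      rw [this]; rfl),
    ⟨(asIso (Scheme.Modules.fromTildeΓ (R := R) L)).symm⟩⟩

/-- An invertible module on `Spec A` is the sheaf attached to an invertible `A`-module. -/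
theorem exists_tilde (A : Type u) [CommRing A] (L : (Spec (CommRingCat.of A)).Modules)
    (hL : PicF.IsInvertible L) :
    ∃ (N : Type u) (_ : AddCommGroup N) (_ : Module A N), Module.Invertible A N ∧
      Nonempty (L ≅ tilde (R := CommRingCat.of A) (ModuleCat.of A N)) := by
  obtain ⟨h1, h2⟩ := exists_tilde' (CommRingCat.of A) L hL
  exact ⟨_, _, _, h1, h2⟩

end K730.PicSpec
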