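import Mathlib.RingTheory.AdicCompletion.Completeness
import Mathlib.RingTheory.AdicCompletion.Algebra
import Mathlib.RingTheory.Henselian
import Mathlib.LinearAlgebra.TensorProduct.RightExactness

/-!
# Quotients of adic completions, base change of quotient comparison maps
-/

set_option autoImplicit false
universe u
open scoped TensorProduct

namespace K730.AdicQuot

theorem comp_alg {R B B' : Type*} [CommRing R] [CommRing B] [CommRing B'] [Algebra R B] [Algebra R B']
    (f : B →ₐ[R] B') : f.toRingHom.comp (algebraMap R B) = algebraMap R B' := RingHom.ext f.commutes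

variable {B : Type u} [CommRing B] (I : Ideal B)

theorem isAdicComplete_map (hI : I.FG) :
    IsAdicComplete (I.map (algebraMap B (AdicCompletion I B))) (AdicCompletion I B) :=
  (IsAdicComplete.map_algebraMap_iff _ _).mpr (AdicCompletion.isAdicComplete hI)

theorem henselianRing_map (hI : I.FG) :
    HenselianRing (AdicCompletion I B) (I.map (algebraMap B (AdicCompletion I B))) :=
  have := isAdicComplete_map I hI
  inferInstance

/-- `B/I → B^/IB^` is bijective for a finitely generated ideal `I`. -/
theorem quotientMap_bijective (hI : I.FG) :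
    Function.Bijective (Ideal.quotientMap (I.map (algebraMap B (AdicCompletion I B)))
      (algebraMap B (AdicCompletion I B)) Ideal.le_comap_map) := by
  have hker := AdicCompletion.ker_evalOneₐ_eq_map I hI
  have hcomp := AdicCompletion.evalOneₐ_comp_algebraMap_eq_mk I
  constructor
  · rw [injective_iff_map_eq_zero]
    intro x hx
    obtain ⟨b, rfl⟩ := Ideal.Quotient.mk_surjective x
    rw [Ideal.quotientMap_mk, Ideal.Quotient.eq_zero_iff_mem, ← hker, RingHom.mem_ker] at hx
    have h1 : Ideal.Quotient.mk I b = 0 := by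
      rw [← hcomp]; exact hx
    exact h1
  · intro y
    obtain ⟨c, rfl⟩ := Ideal.Quotient.mk_surjective y
    obtain ⟨b, hb⟩ := Ideal.Quotient.mk_surjective ((AdicCompletion.evalOneₐ I) c)
    refine ⟨Ideal.Quotient.mk I b, ?_⟩
    rw [Ideal.quotientMap_mk, Ideal.Quotient.mk_eq_mk_iff_sub_mem, ← hker, RingHom.mem_ker, map_sub, sub_eq_zero]
    have h1 : (AdicCompletion.evalOneₐ I) (algebraMap B (AdicCompletion I B) b) = Ideal.Quotient.mk I b :=
      congrArg (fun f : B →+* B ⧸ I => f b) hcomp
    exact h1.trans hb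

/-- Base change of a quotient comparison isomorphism. -/
theorem tensor_quotientMap_bijective {R : Type u} [CommRing R] (m : Ideal R) (R' B B' : Type u) [CommRing R'] [CommRing B]
    [CommRing B'] [Algebra R R'] [Algebra R B] [Algebra R B'] (ψ : B →ₐ[R] B')
    (hψ : Function.Bijective (Ideal.quotientMap ((m.map (algebraMap R B)).map ψ.toRingHom) ψ.toRingHom
      Ideal.le_comap_map)) :
    Function.Bijective (Ideal.quotientMap
      ((m.map (algebraMap R (R' ⊗[R] B))).map (Algebra.TensorProduct.map (AlgHom.id R R') ψ).toRingHom)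
      (Algebra.TensorProduct.map (AlgHom.id R R') ψ).toRingHom Ideal.le_comap_map) := by
  have hmap : (m.map (algebraMap R (R' ⊗[R] B))).map (Algebra.TensorProduct.map (AlgHom.id R R') ψ).toRingHom =
      m.map (algebraMap R (R' ⊗[R] B')) := by
    rw [Ideal.map_map]
    congr 1
    exact comp_alg _
  have hmapB : (m.map (algebraMap R B)).map ψ.toRingHom = m.map (algebraMap R B') := by
    rw [Ideal.map_map]
    congr 1
    exact comp_alg _
  -- elements of `J' = m(R' ⊗ B')`
  have hincl : ∀ c ∈ m.map (algebraMap R B'), ∀ r' : R', r' ⊗ₜ[R] c ∈ m.map (algebraMap R (R' ⊗[R] B')) := by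
    intro c hc r'
    have h1 : (Algebra.TensorProduct.includeRight : B' →ₐ[R] R' ⊗[R] B').toRingHom c ∈
        (m.map (algebraMap R B')).map (Algebra.TensorProduct.includeRight : B' →ₐ[R] R' ⊗[R] B').toRingHom :=
      Ideal.mem_map_of_mem _ hc
    rw [Ideal.map_map] at h1
    have h2 : (Algebra.TensorProduct.includeRight : B' →ₐ[R] R' ⊗[R] B').toRingHom.comp (algebraMap R B') =
        algebraMap R (R' ⊗[R] B') := comp_alg _
    rw [h2] at h1
    have h3 : r' ⊗ₜ[R] c = (r' ⊗ₜ[R] (1 : B')) * (1 ⊗ₜ[R] c) := by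
      rw [Algebra.TensorProduct.tmul_mul_tmul, mul_one, one_mul]
    rw [h3]
    exact Ideal.mul_mem_left _ _ h1
  constructor
  · rw [injective_iff_map_eq_zero]
    intro x hx
    obtain ⟨x, rfl⟩ := Ideal.Quotient.mk_surjective x
    rw [Ideal.quotientMap_mk, Ideal.Quotient.eq_zero_iff_mem, hmap] at hx
    rw [Ideal.Quotient.eq_zero_iff_mem]
    -- compare with `R' ⊗ B/mB → R' ⊗ B'/mB'`
    let π : B →ₐ[R] B ⧸ m.map (algebraMap R B) := Ideal.Quotient.mkₐ R _
    let π' : B' →ₐ[R] B' ⧸ (m.map (algebraMap R B)).map ψ.toRingHom := Ideal.Quotient.mkₐ R _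
    let q : (B ⧸ m.map (algebraMap R B)) →ₐ[R] B' ⧸ (m.map (algebraMap R B)).map ψ.toRingHom :=
      { Ideal.quotientMap ((m.map (algebraMap R B)).map ψ.toRingHom) ψ.toRingHom Ideal.le_comap_map with
        commutes' := fun r => by
          change Ideal.quotientMap _ _ _ (Ideal.Quotient.mk _ (algebraMap R B r)) = _
          rw [Ideal.quotientMap_mk]
          change Ideal.Quotient.mk _ (ψ (algebraMap R B r)) = _
          rw [ψ.commutes]; rfl }
    let qe : (B ⧸ m.map (algebraMap R B)) ≃ₐ[R] B' ⧸ (m.map (algebraMap R B)).map ψ.toRingHom :=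
      AlgEquiv.ofBijective q hψ
    have hcomm : (Algebra.TensorProduct.map (AlgHom.id R R') q).comp (Algebra.TensorProduct.map (AlgHom.id R R') π) =
        (Algebra.TensorProduct.map (AlgHom.id R R') π').comp (Algebra.TensorProduct.map (AlgHom.id R R') ψ) := by
      apply Algebra.TensorProduct.ext'
      intro a b
      simp only [AlgHom.comp_apply, Algebra.TensorProduct.map_tmul, AlgHom.id_apply]
      rfl
    have hinj : Function.Injective (Algebra.TensorProduct.map (AlgHom.id R R') q) :=
      (Algebra.TensorProduct.congr (AlgEquiv.refl : R' ≃ₐ[R] R') qe).injective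
    have hker' : m.map (algebraMap R (R' ⊗[R] B')) ≤ RingHom.ker (Algebra.TensorProduct.map (AlgHom.id R R') π') := by
      rw [Algebra.TensorProduct.lTensor_ker _ (Ideal.Quotient.mkₐ_surjective R _)]
      have : RingHom.ker π' = m.map (algebraMap R B') := by
        rw [← hmapB]; exact Ideal.Quotient.mkₐ_ker R _
      rw [this]
      refine (Eq.le ?_)
      have h2 : (Algebra.TensorProduct.includeRight : B' →ₐ[R] R' ⊗[R] B').toRingHom.comp (algebraMap R B') =
        algebraMap R (R' ⊗[R] B') := comp_alg _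
      rw [← h2, ← Ideal.map_map]
      rfl
    have hx1 : (Algebra.TensorProduct.map (AlgHom.id R R') π') ((Algebra.TensorProduct.map (AlgHom.id R R') ψ) x) = 0 :=
      hker' hx
    have hx2 : (Algebra.TensorProduct.map (AlgHom.id R R') q) ((Algebra.TensorProduct.map (AlgHom.id R R') π) x) = 0 := by
      rw [← hx1]; exact DFunLike.congr_fun hcomm x
    have hx3 : (Algebra.TensorProduct.map (AlgHom.id R R') π) x = 0 := hinj (by rw [hx2, map_zero])
    have hx4 : x ∈ RingHom.ker (Algebra.TensorProduct.map (AlgHom.id R R') π) := hx3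
    rw [Algebra.TensorProduct.lTensor_ker _ (Ideal.Quotient.mkₐ_surjective R _)] at hx4
    have h5 : RingHom.ker π = m.map (algebraMap R B) := Ideal.Quotient.mkₐ_ker R _
    rw [h5] at hx4
    have h2 : (Algebra.TensorProduct.includeRight : B →ₐ[R] R' ⊗[R] B).toRingHom.comp (algebraMap R B) =
      algebraMap R (R' ⊗[R] B) := comp_alg _
    rw [← h2, ← Ideal.map_map]
    exact hx4
  · intro y
    obtain ⟨y, rfl⟩ := Ideal.Quotient.mk_surjective y
    suffices h : ∃ x : R' ⊗[R] B, y - Algebra.TensorProduct.map (AlgHom.id R R') ψ x ∈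
        m.map (algebraMap R (R' ⊗[R] B')) by
      obtain ⟨x, hx⟩ := h
      refine ⟨Ideal.Quotient.mk _ x, ?_⟩
      rw [Ideal.quotientMap_mk]
      symm
      rw [Ideal.Quotient.mk_eq_mk_iff_sub_mem, hmap]
      exact hx
    induction y using TensorProduct.induction_on with
    | zero => exact ⟨0, by simp⟩
    | tmul r' c =>
      obtain ⟨b, hb⟩ := hψ.2 (Ideal.Quotient.mk _ c)
      obtain ⟨b, rfl⟩ := Ideal.Quotient.mk_surjective b
      rw [Ideal.quotientMap_mk] at hb
      have hb' := (Ideal.Quotient.mk_eq_mk_iff_sub_mem _ _).mp hb.symm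
      rw [hmapB] at hb'
      refine ⟨r' ⊗ₜ b, ?_⟩
      rw [Algebra.TensorProduct.map_tmul, AlgHom.id_apply, ← TensorProduct.tmul_sub]
      exact hincl _ hb' r'
    | add y z hy hz =>
      obtain ⟨x1, h1⟩ := hy
      obtain ⟨x2, h2⟩ := hz
      refine ⟨x1 + x2, ?_⟩
      rw [map_add, add_sub_add_comm]
      exact Ideal.add_mem _ h1 h2

end K730.AdicQuot
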