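import Groth.Agent.CurvesB.EtaleCompl
import Groth.Agent.FormalA.AdicFin
import Groth.Agent.CalgA.AdicLe
import Groth.Agent.Ega4late.H526.CBC
import Groth.Agent.Ega4A.CompleteNoeth
import Groth.Agent.S0528
import Groth.Agent.CalgB.HensPair
import Groth.Agent.PicLoc.K730.AdicQuot
import Mathlib.RingTheory.AdicCompletion.AsTensorProduct

/-!
# Pairs `R → S` that look like an `I`-adic completion
-/

set_option autoImplicit false
universe u

namespace K730

/-- `S` is `I`-adically complete with the same quotients as `R`. -/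
structure CP {R : Type u} [CommRing R] (I : Ideal R) (S : Type u) [CommRing S] [Algebra R S] : Prop where
  complete : IsAdicComplete (I.map (algebraMap R S)) S
  d : ∀ (n : ℕ) (s : S), ∃ a : R, s - algebraMap R S a ∈ (I.map (algebraMap R S)) ^ n
  i : ∀ (n : ℕ) (a : R), algebraMap R S a ∈ (I.map (algebraMap R S)) ^ n → a ∈ I ^ n

namespace CP

variable {R : Type u} [CommRing R] {I : Ideal R} {S : Type u} [CommRing S] [Algebra R S]

theorem d' (h : CP I S) (K : Ideal R) {n : ℕ} (hK : I ^ n ≤ K) (s : S) :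
    ∃ a : R, s - algebraMap R S a ∈ K.map (algebraMap R S) := by
  obtain ⟨a, ha⟩ := h.d n s
  refine ⟨a, Ideal.map_mono hK ?_⟩
  rwa [Ideal.map_pow]

theorem i' (h : CP I S) (K : Ideal R) {n : ℕ} (hK : I ^ n ≤ K) (a : R)
    (ha : algebraMap R S a ∈ K.map (algebraMap R S)) : a ∈ K := by
  -- every element of `KS` is the image of an element of `K` up to `I ^ n S`
  have key : ∀ s ∈ K.map (algebraMap R S), ∃ k ∈ K, s - algebraMap R S k ∈ (I.map (algebraMap R S)) ^ n := by
    intro s hs
    refine Submodule.span_induction (p := fun s _ => ∃ k ∈ K, s - algebraMap R S k ∈ (I.map (algebraMap R S)) ^ n)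
      ?_ ?_ ?_ ?_ hs
    · rintro _ ⟨k, hk, rfl⟩
      exact ⟨k, hk, by simp⟩
    · exact ⟨0, K.zero_mem, by simp⟩
    · rintro x y _ _ ⟨k, hk, h1⟩ ⟨k', hk', h2⟩
      refine ⟨k + k', K.add_mem hk hk', ?_⟩
      rw [map_add, add_sub_add_comm]
      exact Ideal.add_mem _ h1 h2
    · rintro c x _ ⟨k, hk, h1⟩
      obtain ⟨b, hb⟩ := h.d n c
      refine ⟨b * k, K.mul_mem_left _ hk, ?_⟩
      have : c • x - algebraMap R S (b * k) = c * (x - algebraMap R S k) + (c - algebraMap R S b) * algebraMap R S k := by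
        rw [smul_eq_mul, map_mul]; ring
      rw [this]
      exact Ideal.add_mem _ (Ideal.mul_mem_left _ _ h1) (Ideal.mul_mem_right _ _ hb)
  obtain ⟨k, hk, h1⟩ := key _ ha
  rw [← map_sub] at h1
  have h2 := hK (h.i n _ h1)
  have : a = (a - k) + k := by ring
  rw [this]
  exact K.add_mem h2 hk

theorem of_adicCompletion (I : Ideal R) (hI : I.FG) : CP I (AdicCompletion I R) := by
  refine ⟨AdicQuot.isAdicComplete_map I hI, ?_, ?_⟩
  · intro n s
    obtain ⟨a, ha⟩ := Ideal.Quotient.mk_surjective (AdicCompletion.evalₐ I n s)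
    refine ⟨a, ?_⟩
    rw [Groth.Agent.Ega4late.H526.CBC.mem_pow_map_iff I hI, map_sub, sub_eq_zero, ← ha]
    rfl
  · intro n a ha
    rw [Groth.Agent.Ega4late.H526.CBC.mem_pow_map_iff I hI] at ha
    exact Ideal.Quotient.eq_zero_iff_mem.mp ha

theorem exists_ringEquiv (h : CP I S) :
    ∃ e : AdicCompletion I R ≃+* S, ∀ a, e (algebraMap R _ a) = algebraMap R S a := by
  obtain ⟨e, he⟩ := Groth.Agent.CurvesB.EtaleCompl.exists_completion_ringEquiv (algebraMap R S) I
    (I.map (algebraMap R S)) Ideal.le_comap_map h.i h.d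
  have := h.complete
  have hb : Function.Bijective (algebraMap S (AdicCompletion (I.map (algebraMap R S)) S)) :=
    AdicCompletion.of_bijective _ _
  refine ⟨e.trans (RingEquiv.ofBijective _ hb).symm, fun a => ?_⟩
  rw [RingEquiv.trans_apply, he, RingEquiv.symm_apply_eq]
  rfl

theorem exists_algEquiv (h : CP I S) : Nonempty (AdicCompletion I R ≃ₐ[R] S) := by
  obtain ⟨e, he⟩ := h.exists_ringEquiv
  exact ⟨AlgEquiv.ofRingEquiv (f := e) he⟩

theorem flat [IsNoetherianRing R] (h : CP I S) : Module.Flat R S := by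
  obtain ⟨e⟩ := h.exists_algEquiv
  exact Module.Flat.of_linearEquiv e.symm.toLinearEquiv

theorem isNoetherianRing [IsNoetherianRing R] (h : CP I S) : IsNoetherianRing S := by
  obtain ⟨e⟩ := h.exists_algEquiv
  have := Groth.Agent.Ega4A.CompleteNoeth.isNoetherianRing_adicCompletion I
  exact isNoetherianRing_of_ringEquiv _ e.toRingEquiv

section tower

variable {R' : Type u} [CommRing R'] [Algebra R R'] [Algebra R' S] [IsScalarTower R R' S] {T J : Ideal R}

theorem tower [IsNoetherianRing R'] [IsNoetherianRing S] (h1 : CP T R') (h2 : CP (T ⊔ J) S) :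
    CP (J.map (algebraMap R R')) S := by
  have hm : ∀ K : Ideal R, (K.map (algebraMap R R')).map (algebraMap R' S) = K.map (algebraMap R S) := by
    intro K
    rw [Ideal.map_map, ← IsScalarTower.algebraMap_eq]
  have := h2.complete
  have hJ : IsAdicComplete (J.map (algebraMap R S)) S :=
    Groth.Agent.CalgA.AdicLe.isAdicComplete_of_le (J := (T ⊔ J).map (algebraMap R S)) (Ideal.map_mono le_sup_right)
      (IsNoetherian.noetherian _)
  have hT : IsAdicComplete (T.map (algebraMap R S)) S :=
    Groth.Agent.CalgA.AdicLe.isAdicComplete_of_le (J := (T ⊔ J).map (algebraMap R S)) (Ideal.map_mono le_sup_left)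
      (IsNoetherian.noetherian _)
  have hT' := h1.complete
  have hpow : ∀ n m : ℕ, (T ⊔ J) ^ (m + n) ≤ J ^ n ⊔ T ^ m := by
    intro n m
    rw [sup_comm (J ^ n)]
    exact Ideal.sup_pow_add_le_pow_sup_pow
  refine ⟨by rw [hm]; exact hJ, ?_, ?_⟩
  · intro n s
    let Q := S ⧸ (((J.map (algebraMap R R')).map (algebraMap R' S)) ^ n)
    have hQ : IsAdicComplete (T.map (algebraMap R S)) Q :=
      Groth.Agent.FormalA.AdicFin.isAdicComplete_of_finite _
    rw [← hm] at hQ
    have hQ' : IsHausdorff (T.map (algebraMap R R')) Q := IsHausdorff.map_algebraMap_iff.mp hQ.toIsHausdorff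
    let f : R' →ₗ[R'] Q := (Algebra.ofId R' Q).toLinearMap
    have hf : Function.Surjective f := by
      apply surjective_of_mkQ_comp_surjective (I := T.map (algebraMap R R'))
      intro y
      obtain ⟨y, rfl⟩ := Submodule.mkQ_surjective _ y
      obtain ⟨y, rfl⟩ := Ideal.Quotient.mk_surjective y
      obtain ⟨a, ha⟩ := h2.d' (J ^ n ⊔ T ^ 1) (hpow n 1) y
      refine ⟨algebraMap R R' a, ?_⟩
      rw [LinearMap.comp_apply, ← sub_eq_zero, ← map_sub, Submodule.mkQ_apply, Submodule.Quotient.mk_eq_zero,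
        Ideal.smul_top_eq_map, Submodule.restrictScalars_mem]
      have e1 : (T.map (algebraMap R R')).map (algebraMap R' Q) = (T.map (algebraMap R S)).map (Ideal.Quotient.mk _) := by
        rw [← hm T, Ideal.map_map (algebraMap R' S)]
        rfl
      have e2 : f (algebraMap R R' a) - Ideal.Quotient.mk _ y = Ideal.Quotient.mk _ (algebraMap R S a - y) := by
        rw [map_sub, IsScalarTower.algebraMap_apply R R' S]
        rfl
      rw [e1, e2]
      rw [Ideal.map_sup, pow_one] at ha
      obtain ⟨j, hj, τ, hτ, hjτ⟩ := Submodule.mem_sup.mp ha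
      have e3 : algebraMap R S a - y = -j - τ := by rw [← neg_sub, ← hjτ]; ring
      have e4 : (Ideal.Quotient.mk (((J.map (algebraMap R R')).map (algebraMap R' S)) ^ n)) (-j) = 0 := by
        rw [Ideal.Quotient.eq_zero_iff_mem, hm, ← Ideal.map_pow]
        exact neg_mem hj
      rw [e3, map_sub, e4, zero_sub]
      exact neg_mem (Ideal.mem_map_of_mem _ hτ)
    obtain ⟨a, ha⟩ := hf (Ideal.Quotient.mk _ s)
    refine ⟨a, ?_⟩
    rw [← Ideal.Quotient.eq_zero_iff_mem, map_sub, sub_eq_zero, ← ha]
    rfl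
  · intro n a ha
    have hQ : IsAdicComplete (T.map (algebraMap R R')) (R' ⧸ (J.map (algebraMap R R')) ^ n) :=
      Groth.Agent.FormalA.AdicFin.isAdicComplete_of_finite _
    rw [← Ideal.Quotient.eq_zero_iff_mem]
    refine hQ.haus _ fun m => ?_
    rw [SModEq.zero]
    obtain ⟨b, hb⟩ := h1.d m a
    have e1 : algebraMap R S b ∈ (J ^ n ⊔ T ^ m).map (algebraMap R S) := by
      rw [Ideal.map_sup, Ideal.map_pow, Ideal.map_pow, IsScalarTower.algebraMap_apply R R' S]
      have e2 : algebraMap R' S (algebraMap R R' b) = algebraMap R' S a - algebraMap R' S (a - algebraMap R R' b) := by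
        rw [map_sub]; ring
      rw [e2]
      refine Submodule.sub_mem_sup (by rw [hm] at ha; exact ha) ?_
      rw [← hm, ← Ideal.map_pow]
      exact Ideal.mem_map_of_mem _ hb
    have e3 := h2.i' _ (hpow n m) b e1
    obtain ⟨j, hj, τ, hτ, rfl⟩ := Submodule.mem_sup.mp e3
    have e4 : (Ideal.Quotient.mk ((J.map (algebraMap R R')) ^ n)) a =
        (Ideal.Quotient.mk ((J.map (algebraMap R R')) ^ n)) ((a - algebraMap R R' (j + τ)) + algebraMap R R' τ) := by
      rw [Ideal.Quotient.mk_eq_mk_iff_sub_mem, map_add]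
      have : a - (a - (algebraMap R R' j + algebraMap R R' τ) + algebraMap R R' τ) = algebraMap R R' j := by ring
      rw [this, ← Ideal.map_pow]
      exact Ideal.mem_map_of_mem _ hj
    rw [e4]
    have e5 : (a - algebraMap R R' (j + τ)) + algebraMap R R' τ ∈ (T.map (algebraMap R R')) ^ m := by
      refine Ideal.add_mem _ hb ?_
      rw [← Ideal.map_pow]
      exact Ideal.mem_map_of_mem _ hτ
    have e6 := Submodule.smul_mem_smul (N := (⊤ : Submodule R' (R' ⧸ (J.map (algebraMap R R')) ^ n))) e5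
      (Submodule.mem_top (x := 1))
    rw [Algebra.smul_def, mul_one] at e6
    exact e6

end tower

/-- The completed pair is henselian for the bigger ideal. -/
theorem henselian {T J : Ideal R} (h : CP T S) (hT : T ≤ J) [hJ : HenselianRing R J] :
    HenselianRing S (J.map (algebraMap R S)) := by
  have h1 := h.complete
  refine (Groth.Agent.S0528.result S (T.map (algebraMap R S)) (J.map (algebraMap R S)) (Ideal.map_mono hT)).mpr
    ⟨inferInstance, ?_⟩
  have h2 := ((Groth.Agent.S0528.result R T J hT).mp hJ).2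
  have hbij : Function.Bijective (Ideal.quotientMap (T.map (algebraMap R S)) (algebraMap R S) Ideal.le_comap_map) := by
    constructor
    · rw [injective_iff_map_eq_zero]
      intro x hx
      obtain ⟨x, rfl⟩ := Ideal.Quotient.mk_surjective x
      rw [Ideal.quotientMap_mk, Ideal.Quotient.eq_zero_iff_mem] at hx
      rw [Ideal.Quotient.eq_zero_iff_mem]
      exact h.i' T (n := 1) (by rw [pow_one]) x hx
    · intro y
      obtain ⟨y, rfl⟩ := Ideal.Quotient.mk_surjective y
      obtain ⟨a, ha⟩ := h.d' T (n := 1) (by rw [pow_one]) y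
      refine ⟨Ideal.Quotient.mk _ a, ?_⟩
      rw [Ideal.quotientMap_mk, eq_comm, Ideal.Quotient.mk_eq_mk_iff_sub_mem]
      exact ha
  let e := RingEquiv.ofBijective _ hbij
  refine Groth.Agent.CalgB.HensPair.henselian_of_ringEquiv e h2 fun x => ?_
  obtain ⟨y, rfl⟩ := e.surjective x
  rw [e.symm_apply_apply]
  have e1 : (J.map (algebraMap R S)).map (Ideal.Quotient.mk (T.map (algebraMap R S))) =
      (J.map (Ideal.Quotient.mk T)).map (e : R ⧸ T →+* S ⧸ T.map (algebraMap R S)) := by
    rw [Ideal.map_map, Ideal.map_map]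
    rfl
  rw [e1]
  constructor
  · intro h
    obtain ⟨z, hz, hze⟩ := (Ideal.mem_map_iff_of_surjective _ e.surjective).mp h
    rwa [← e.injective hze]
  · exact fun h => Ideal.mem_map_of_mem _ h


end CP

end K730
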