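import Groth.Agent.PicLoc.K730.IdemNear
import Mathlib.RingTheory.Localization.Integer
import Mathlib.LinearAlgebra.Matrix.NonsingularInverse
import Mathlib.Tactic.NoncommRing

/-!
# Idempotent matrices over `B[1/t]` are conjugate to idempotent matrices over `A[1/t]`

`A → B` with `B = A + t^N B`, `A ∩ t^N B = t^N A`, `t` in the Jacobson radical of `B` and `(A, tA)` henselian.
-/

set_option autoImplicit false
universe u

namespace K730.IdemConj

open K730.IdemNear

section loc

variable {B : Type u} [CommRing B] (t : B) (Bt : Type u) [CommRing Bt] [Algebra B Bt] [IsLocalization.Away t Bt]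
  {n : Type*} [Fintype n]

theorem exists_pow_smul (P : Matrix n n Bt) : ∃ (c : ℕ) (P₀ : Matrix n n B), t ^ c • P = P₀.map (algebraMap B Bt) := by
  classical
  obtain ⟨b, hb⟩ := IsLocalization.exist_integer_multiples_of_finite (Submonoid.powers t)
    (fun ij : n × n => P ij.1 ij.2)
  obtain ⟨c, hc⟩ := b.2
  choose g hg using hb
  refine ⟨c, Matrix.of fun i j => g (i, j), ?_⟩
  ext i j
  rw [Matrix.map_apply, Matrix.of_apply, hg, Matrix.smul_apply]
  have hc' : t ^ c = (b : B) := hc
  rw [hc']

theorem exists_pow_smul_eq_zero (M : Matrix n n B) (h : M.map (algebraMap B Bt) = 0) : ∃ j : ℕ, t ^ j • M = 0 := by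
  classical
  have h1 : ∀ ij : n × n, ∃ k : ℕ, t ^ k * M ij.1 ij.2 = 0 := by
    intro ij
    have : algebraMap B Bt (M ij.1 ij.2) = 0 := congrFun (congrFun h ij.1) ij.2
    obtain ⟨⟨_, k, rfl⟩, hk⟩ := (IsLocalization.map_eq_zero_iff (Submonoid.powers t) Bt _).mp this
    exact ⟨k, hk⟩
  choose k hk using h1
  refine ⟨Finset.univ.sup k, ?_⟩
  ext i j
  rw [Matrix.smul_apply, smul_eq_mul, Matrix.zero_apply]
  obtain ⟨d, hd⟩ := Nat.exists_eq_add_of_le (Finset.le_sup (f := k) (Finset.mem_univ (i, j)))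
  rw [hd, pow_add, mul_comm (t ^ _), mul_assoc, hk (i, j), mul_zero]

end loc

variable {A B : Type u} [CommRing A] [CommRing B] [Algebra A B] (t : A) (At Bt : Type u) [CommRing At] [CommRing Bt]
  [Algebra A At] [Algebra B Bt] [Algebra At Bt] [Algebra A Bt] [IsScalarTower A B Bt] [IsScalarTower A At Bt]
  [IsLocalization.Away t At] [IsLocalization.Away (algebraMap A B t) Bt]
  {n : Type*} [Fintype n] [DecidableEq n]

theorem exists_conj [HenselianRing A (Ideal.span {t})]
    (hd : ∀ (N : ℕ) (b : B), ∃ (a : A) (b' : B), b = algebraMap A B a + algebraMap A B t ^ N * b')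
    (hi : ∀ (N : ℕ) (a : A) (b : B), algebraMap A B a = algebraMap A B t ^ N * b → ∃ a', a = t ^ N * a')
    (hj : algebraMap A B t ∈ Ideal.jacobson (⊥ : Ideal B))
    (P : Matrix n n Bt) (hP : P * P = P) :
    ∃ (E : Matrix n n At) (u : (Matrix n n B)ˣ), E * E = E ∧
      E.map (algebraMap At Bt) * (u : Matrix n n B).map (algebraMap B Bt) =
        (u : Matrix n n B).map (algebraMap B Bt) * P := by
  obtain ⟨c, P₀, hP₀⟩ := exists_pow_smul (algebraMap A B t) Bt P
  let m := 3 * c + 1
  -- approximate `P₀`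
  have happ : ∃ (X₀ : Matrix n n A) (Q : Matrix n n B),
      P₀ = X₀.map (algebraMap A B) + algebraMap A B t ^ (m + c) • Q := by
    choose a b hab using hd (m + c)
    refine ⟨fun i j => a (P₀ i j), fun i j => b (P₀ i j), ?_⟩
    ext i j
    exact hab (P₀ i j)
  obtain ⟨X₀, Q, hXQ⟩ := happ
  have htA : IsUnit (algebraMap A At t) := IsLocalization.Away.algebraMap_isUnit t
  have htB : IsUnit (algebraMap A Bt t) := by
    rw [IsScalarTower.algebraMap_apply A B Bt]
    exact IsLocalization.Away.algebraMap_isUnit _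
  -- cancellation
  have cancelA : ∀ (k : ℕ) (M N : Matrix n n At), t ^ k • M = t ^ k • N → M = N := by
    intro k M N h
    have h2 := htA.pow k
    rw [← map_pow] at h2
    rw [← algebraMap_smul At, ← algebraMap_smul At (t ^ k) N] at h
    exact h2.smul_left_cancel.mp h
  have cancelB : ∀ (k : ℕ) (M N : Matrix n n Bt), t ^ k • M = t ^ k • N → M = N := by
    intro k M N h
    have h2 := htB.pow k
    rw [← map_pow] at h2
    rw [← algebraMap_smul Bt, ← algebraMap_smul Bt (t ^ k) N] at h
    exact h2.smul_left_cancel.mp h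
  -- the matrix `x`
  have hx : ∃ x : Matrix n n At, t ^ c • x = X₀.map (algebraMap A At) := by
    obtain ⟨v, hv⟩ := htA.pow c
    refine ⟨(↑v⁻¹ : At) • X₀.map (algebraMap A At), ?_⟩
    rw [← algebraMap_smul At (t ^ c), map_pow, ← hv, smul_smul, Units.mul_inv, one_smul]
  obtain ⟨x, hx⟩ := hx
  let φ : Matrix n n At →+* Matrix n n Bt := (algebraMap At Bt).mapMatrix
  let β : Matrix n n B →+* Matrix n n Bt := (algebraMap B Bt).mapMatrix
  let α : Matrix n n A →+* Matrix n n At := (algebraMap A At).mapMatrix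
  let γ : Matrix n n A →+* Matrix n n B := (algebraMap A B).mapMatrix
  have hφs : ∀ (a : A) (M : Matrix n n At), φ (a • M) = a • φ M := by
    intro a M
    ext i j
    change algebraMap At Bt ((a • M) i j) = (a • φ M) i j
    rw [Matrix.smul_apply, Matrix.smul_apply, Algebra.smul_def, Algebra.smul_def, map_mul,
      ← IsScalarTower.algebraMap_apply]
    rfl
  have hβs : ∀ (a : A) (M : Matrix n n B), β (a • M) = a • β M := by
    intro a M
    ext i j
    change algebraMap B Bt ((a • M) i j) = (a • β M) i j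
    rw [Matrix.smul_apply, Matrix.smul_apply, Algebra.smul_def, Algebra.smul_def, map_mul,
      ← IsScalarTower.algebraMap_apply]
    rfl
  have hαs : ∀ (a : A) (M : Matrix n n A), α (a • M) = a • α M := by
    intro a M
    ext i j
    change algebraMap A At ((a • M) i j) = (a • α M) i j
    rw [Matrix.smul_apply, Matrix.smul_apply, smul_eq_mul, Algebra.smul_def, map_mul]
    rfl
  have hγs : ∀ (a : A) (M : Matrix n n A), γ (a • M) = a • γ M := by
    intro a M
    ext i j
    change algebraMap A B ((a • M) i j) = (a • γ M) i j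
    rw [Matrix.smul_apply, Matrix.smul_apply, smul_eq_mul, Algebra.smul_def, map_mul]
    rfl
  have hcomm : ∀ M, φ (α M) = β (γ M) := by
    intro M
    ext i j
    change algebraMap At Bt (algebraMap A At (M i j)) = algebraMap B Bt (algebraMap A B (M i j))
    rw [← IsScalarTower.algebraMap_apply, ← IsScalarTower.algebraMap_apply]
  have hP₀' : t ^ c • P = β P₀ := by
    change _ = P₀.map (algebraMap B Bt)
    rw [← hP₀, ← map_pow, algebraMap_smul]
  have hXQ' : P₀ = γ X₀ + t ^ (m + c) • Q := by
    rw [hXQ, ← map_pow, algebraMap_smul]; rfl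
  -- the image of `x`
  have hx1 : φ x = P - t ^ m • β Q := by
    apply cancelB c
    rw [← hφs, hx, smul_sub, hP₀', hXQ', map_add, hβs, smul_smul, ← pow_add, add_comm c m, add_sub_cancel_right]
    exact hcomm X₀
  -- `x² - x` is small
  let U : Matrix n n A := X₀ * X₀ - t ^ c • X₀
  have hU : α U = t ^ (2 * c) • (x * x - x) := by
    have hx' : α X₀ = t ^ c • x := hx.symm
    simp only [U, map_sub, map_mul, hαs, hx', smul_sub, smul_mul_smul_comm, ← pow_add, smul_smul, two_mul]
  let Z : Matrix n n B := t ^ c • Q - P₀ * Q - Q * P₀ + t ^ (m + c) • (Q * Q)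
  have hZ : β Z = t ^ c • (β Q - P * β Q - β Q * P + t ^ m • (β Q * β Q)) := by
    simp only [Z, map_sub, map_add, map_mul, hβs, ← hP₀', smul_sub, smul_add, smul_mul_assoc, mul_smul_comm,
      smul_smul, ← pow_add, add_comm c m]
  have hUZ : β (γ U - t ^ (m + c) • Z) = 0 := by
    rw [map_sub, ← hcomm, hU, hφs, map_sub, map_mul, hx1, hβs, hZ, smul_smul, ← pow_add]
    have e1 : (P - t ^ m • β Q) * (P - t ^ m • β Q) - (P - t ^ m • β Q) =
        t ^ m • (β Q - P * β Q - β Q * P + t ^ m • (β Q * β Q)) := by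
      simp only [sub_mul, mul_sub, hP, smul_mul_assoc, mul_smul_comm, smul_sub, smul_add]
      abel
    rw [e1, smul_smul, ← pow_add, show 2 * c + m = m + c + c by ring, sub_self]
  obtain ⟨j, hj'⟩ := exists_pow_smul_eq_zero (algebraMap A B t) Bt _ hUZ
  have hY : ∃ Y : Matrix n n A, t ^ j • U = t ^ (j + (m + c)) • Y := by
    have h1 : ∀ i k, ∃ y : A, t ^ j * U i k = t ^ (j + (m + c)) * y := by
      intro i k
      refine hi (j + (m + c)) (t ^ j * U i k) (Z i k) ?_
      have h2 := congrFun (congrFun hj' i) k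
      rw [Matrix.smul_apply, Matrix.sub_apply, Matrix.smul_apply, Matrix.zero_apply, smul_sub, sub_eq_zero,
        smul_eq_mul, smul_eq_mul, Algebra.smul_def, map_pow] at h2
      rw [map_mul, map_pow]
      refine h2.trans ?_
      rw [← mul_assoc, ← pow_add]
    choose y hy using h1
    exact ⟨Matrix.of y, by ext i k; exact hy i k⟩
  obtain ⟨Y, hY⟩ := hY
  have hY1 : x * x - x = t ^ (2 * c + 1) • α Y := by
    apply cancelA (2 * c)
    apply cancelA j
    rw [← hU, ← hαs, hY, hαs, smul_smul, smul_smul, ← pow_add, ← pow_add]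
    congr 2
    omega
  obtain ⟨E, W, hE, hEW⟩ := exists_idem_near t (x := x) (c := c) (m := 2 * c + 1) (Y := Y) (by omega) X₀ hx hY1
  have hEx : E - x = t ^ (c + 1) • α W := by
    apply cancelA c
    rw [hEW, smul_smul, ← pow_add]
    congr 2
    omega
  let D : Matrix n n B := γ W - t ^ (2 * c) • Q
  have hEP : φ E - P = t ^ (c + 1) • β D := by
    have h1 : φ E = φ x + t ^ (c + 1) • φ (α W) := by
      rw [← hφs, ← hEx, map_sub]; abel
    rw [h1, hx1, hcomm]
    simp only [D, map_sub, hβs, smul_sub, smul_smul, ← pow_add]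
    rw [show c + 1 + 2 * c = m by omega]
    abel
  let u₀ : Matrix n n B := 1 + t • (D * (2 • P₀ - t ^ c • 1))
  have hu₀ : IsUnit u₀ := by
    rw [Matrix.isUnit_iff_isUnit_det]
    have hle : Ideal.span {algebraMap A B t} ≤ Ideal.jacobson ⊥ := by
      rw [Ideal.span_le]
      simpa using hj
    have := isLocalHom_of_le_jacobson_bot (Ideal.span {algebraMap A B t}) hle
    apply IsUnit.of_map (Ideal.Quotient.mk (Ideal.span {algebraMap A B t}))
    have h1 : (Ideal.Quotient.mk (Ideal.span {algebraMap A B t})) u₀.det =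
        ((Ideal.Quotient.mk (Ideal.span {algebraMap A B t})).mapMatrix u₀).det := RingHom.map_det _ _
    rw [h1]
    have h2 : (Ideal.Quotient.mk (Ideal.span {algebraMap A B t})).mapMatrix u₀ = 1 := by
      simp only [u₀, map_add, map_one, add_eq_left]
      ext i k
      change Ideal.Quotient.mk _ ((t • (D * (2 • P₀ - t ^ c • 1)) : Matrix n n B) i k) = 0
      rw [Matrix.smul_apply, Algebra.smul_def, Ideal.Quotient.eq_zero_iff_mem]
      exact Ideal.mul_mem_right _ _ (Ideal.mem_span_singleton_self _)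
    rw [h2, Matrix.det_one]
    exact isUnit_one
  have hu1 : β u₀ = 1 + (φ E - P) * (2 • P - 1) := by
    have e0 : 2 • (t ^ c • P) - t ^ c • (1 : Matrix n n Bt) = t ^ c • (2 • P - 1) := by
      rw [smul_sub, smul_comm]
    rw [hEP]
    simp only [u₀, map_add, map_one, map_mul, hβs, map_sub, map_nsmul, ← hP₀']
    rw [e0, mul_smul_comm, smul_smul, ← pow_succ', smul_mul_assoc]
  obtain ⟨u, hu⟩ := hu₀
  refine ⟨E, u, hE, ?_⟩
  change φ E * β u = β u * P
  rw [hu, hu1]
  have hEE : φ E * φ E = φ E := by rw [← map_mul, hE]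
  have e1 : φ E * (1 + (φ E - P) * (2 • P - 1)) = φ E * P := by
    have : φ E * (1 + (φ E - P) * (2 • P - 1)) =
      φ E + 2 • (φ E * φ E * P) - φ E * φ E - 2 • (φ E * (P * P)) + φ E * P := by noncomm_ring
    rw [this, hEE, hP]
    abel
  have e2 : (1 + (φ E - P) * (2 • P - 1)) * P = φ E * P := by
    have : (1 + (φ E - P) * (2 • P - 1)) * P =
      P + 2 • (φ E * (P * P)) - φ E * P - 2 • (P * P * P) + P * P := by noncomm_ring
    rw [this, hP, hP]
    abel
  rw [e1, e2]

end K730.IdemConj
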