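import Groth.Agent.Hensel.IdemPoly
import Groth.Agent.CalgB.HensPair
import Mathlib.RingTheory.Polynomial.ScaleRoots
import Mathlib.LinearAlgebra.Matrix.Charpoly.Basic
import Mathlib.RingTheory.Localization.Away.Basic

/-!
# Idempotent matrices near an approximate idempotent over `A[1/t]`, `(A, tA)` henselian

`exists_idem_near`: if `x` is a matrix over `A[1/t]` with `t^c x` integral and `x² - x = t^m Y`, `Y` a matrix over
`A`, then there is an idempotent matrix `E` over `A[1/t]` with `t^c (E - x) = t^m W`, `W` a matrix over `A`.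
-/

set_option autoImplicit false
universe u

open Polynomial

namespace K730.IdemNear

variable {A : Type u} [CommRing A] (t : A) {At : Type u} [CommRing At] [Algebra A At]
  {n : Type*} [Fintype n] [DecidableEq n]

/-- The set of matrices `z` over `At` such that `z` comes from `A`, an additive subgroup closed under product. -/
def lat (A At : Type u) [CommRing A] [CommRing At] [Algebra A At] (n : Type*) [Fintype n] [DecidableEq n] :
    Subalgebra A (Matrix n n At) :=
  ((Algebra.ofId A At).mapMatrix (m := n)).range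

theorem mem_lat {z : Matrix n n At} : z ∈ lat A At n ↔ ∃ Z : Matrix n n A, Z.map (algebraMap A At) = z := Iff.rfl

variable {x : Matrix n n At} {c m : ℕ} {Y : Matrix n n A}

theorem pow_mem (X₀ : Matrix n n A) (hx : t ^ c • x = X₀.map (algebraMap A At))
    (hY : x * x - x = t ^ m • Y.map (algebraMap A At)) (k : ℕ) : t ^ c • x ^ k ∈ lat A At n := by
  induction k using Nat.strong_induction_on with
  | _ k ih =>
    match k with
    | 0 => exact (lat A At n).smul_mem (by rw [pow_zero]; exact one_mem _) _
    | 1 => rw [pow_one, hx]; exact mem_lat.mpr ⟨X₀, rfl⟩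
    | k + 2 =>
      have h1 : x ^ (k + 2) = x ^ (k + 1) + t ^ m • (Y.map (algebraMap A At) * x ^ k) := by
        have : x * x = x + t ^ m • Y.map (algebraMap A At) := by rw [← hY]; abel
        rw [pow_succ', pow_succ', ← mul_assoc, this, add_mul, ← pow_succ', smul_mul_assoc]
      rw [h1, smul_add, smul_comm (t ^ c) (t ^ m), ← mul_smul_comm]
      exact add_mem (ih _ (by omega)) ((lat A At n).smul_mem (mul_mem (mem_lat.mpr ⟨Y, rfl⟩) (ih _ (by omega))) _)

theorem aeval_mem (X₀ : Matrix n n A) (hx : t ^ c • x = X₀.map (algebraMap A At))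
    (hY : x * x - x = t ^ m • Y.map (algebraMap A At)) (p : A[X]) : t ^ c • aeval x p ∈ lat A At n := by
  rw [aeval_eq_sum_range, Finset.smul_sum]
  refine sum_mem fun i _ => ?_
  rw [smul_comm]
  exact (lat A At n).smul_mem (pow_mem t X₀ hx hY i) _

theorem exists_idem_near [HenselianRing A (Ideal.span {t})] (hm : 0 < m)
    (X₀ : Matrix n n A) (hx : t ^ c • x = X₀.map (algebraMap A At))
    (hY : x * x - x = t ^ m • Y.map (algebraMap A At)) :
    ∃ (E : Matrix n n At) (W : Matrix n n A), E * E = E ∧ t ^ c • (E - x) = t ^ m • W.map (algebraMap A At) := by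
  classical
  rcases isEmpty_or_nonempty n with hn | hn
  · exact ⟨0, 0, Subsingleton.elim _ _, Subsingleton.elim _ _⟩
  rcases subsingleton_or_nontrivial A with hs | hs
  · have : Subsingleton At := Module.subsingleton A At
    exact ⟨0, 0, Subsingleton.elim _ _, Subsingleton.elim _ _⟩
  let I : Ideal A := Ideal.span {t ^ m}
  have hI : HenselianRing A I := Groth.Agent.CalgB.HensPair.henselian_of_le (J := Ideal.span {t}) inferInstance
    (Ideal.span_singleton_le_span_singleton.mpr (dvd_pow_self t hm.ne'))
  let χ := Y.charpoly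
  have hχ : χ.Monic := Y.charpoly_monic
  have hdeg : χ.natDegree = Fintype.card n := Y.charpoly_natDegree_eq_dim
  have hcard : Fintype.card n ≠ 0 := Fintype.card_ne_zero
  let F : A[X] := (χ.scaleRoots (t ^ m)).comp (X ^ 2 - X)
  have hXX : (X ^ 2 - X : A[X]).Monic := by
    have : (X ^ 2 - X : A[X]) = X * (X - C 1) := by simp [mul_sub, sq]
    rw [this]
    exact monic_X.mul (monic_X_sub_C 1)
  have hXXd : (X ^ 2 - X : A[X]).natDegree ≠ 0 := by
    have : (X ^ 2 - X : A[X]) = X * (X - C 1) := by simp [mul_sub, sq]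
    rw [this, (monic_X).natDegree_mul (monic_X_sub_C 1), natDegree_X, natDegree_X_sub_C]
    norm_num
  have hF : F.Monic := ((monic_scaleRoots_iff (t ^ m)).mpr hχ).comp hXX hXXd
  -- `F` kills `x`
  have hFx : aeval x F = 0 := by
    have h1 : aeval (Y.map (algebraMap A At)) χ = 0 := by
      have h2 := Matrix.aeval_self_charpoly Y
      have h3 : (Algebra.ofId A At).mapMatrix (aeval Y χ) = aeval (Y.map (algebraMap A At)) χ := by
        rw [← aeval_algHom_apply]; rfl
      rw [← h3]
      exact (congrArg _ h2).trans (map_zero _)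
    have h4 := scaleRoots_aeval_eq_zero (r := t ^ m) h1
    rw [aeval_comp]
    have h5 : aeval x (X ^ 2 - X : A[X]) = algebraMap A (Matrix n n At) (t ^ m) * Y.map (algebraMap A At) := by
      rw [map_sub, map_pow, aeval_X, sq, hY, Algebra.smul_def]
    rw [h5]
    exact h4
  -- `F` modulo `t ^ m`
  have hFI : F.map (Ideal.Quotient.mk I) = X ^ (Fintype.card n) * (X - 1) ^ (Fintype.card n) := by
    have h1 : (χ.scaleRoots (t ^ m)).map (Ideal.Quotient.mk I) = X ^ (Fintype.card n) := by
      ext i
      rw [coeff_map, coeff_scaleRoots, coeff_X_pow, hdeg]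
      rcases lt_trichotomy i (Fintype.card n) with hi | hi | hi
      · rw [if_neg hi.ne, Ideal.Quotient.eq_zero_iff_mem]
        exact I.mul_mem_left _ (Ideal.pow_mem_of_mem I (Ideal.mem_span_singleton_self _) _ (by omega))
      · rw [if_pos hi, hi, Nat.sub_self, pow_zero, mul_one]
        have : χ.coeff (Fintype.card n) = 1 := by rw [← hdeg]; exact hχ
        rw [this, map_one]
      · rw [if_neg hi.ne', coeff_eq_zero_of_natDegree_lt (by rw [hdeg]; exact hi), zero_mul, map_zero]
    have h2 : F.map (Ideal.Quotient.mk I) = ((χ.scaleRoots (t ^ m)).map (Ideal.Quotient.mk I)).comp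
        ((X ^ 2 - X : A[X]).map (Ideal.Quotient.mk I)) := Polynomial.map_comp _ _ _
    rw [h2, h1]
    simp only [Polynomial.map_sub, Polynomial.map_pow, Polynomial.map_X, pow_comp, X_comp]
    rw [← mul_pow]
    congr 1
    ring
  obtain ⟨e, he, he0, he1⟩ := Groth.Agent.Hensel.IdemPoly.exists_idem_poly A I F hF _ hcard hFI
  refine ⟨aeval x e, ?_⟩
  have hidem : aeval x e * aeval x e = aeval x e := by
    obtain ⟨w, hw⟩ := he
    have := congrArg (aeval x) hw
    rw [map_mul, map_mul, hFx, zero_mul, map_sub, map_one, mul_sub, mul_one, sub_eq_zero] at this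
    exact this.symm
  -- `e - X` is a combination of `X^2 - X` and `t^m`
  have hcomb : ∃ g h : A[X], e - X = (X ^ 2 - X) * g + C (t ^ m) * h := by
    have d0 : (X : (A ⧸ I)[X]) ∣ (e - X).map (Ideal.Quotient.mk I) := by
      rw [Polynomial.map_sub, Polynomial.map_X]
      exact dvd_sub he0 dvd_rfl
    have d1 : (X - 1 : (A ⧸ I)[X]) ∣ (e - X).map (Ideal.Quotient.mk I) := by
      have : e - X = -(1 - e) - (X - 1) := by ring
      rw [this, Polynomial.map_sub, Polynomial.map_neg]
      refine dvd_sub (he1.neg_right) ?_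
      rw [Polynomial.map_sub, Polynomial.map_X, Polynomial.map_one]
    have hcop : IsCoprime (X : (A ⧸ I)[X]) (X - 1) := ⟨1, -1, by ring⟩
    obtain ⟨g', hg'⟩ := hcop.mul_dvd d0 d1
    obtain ⟨g, rfl⟩ := Polynomial.map_surjective (Ideal.Quotient.mk I) Ideal.Quotient.mk_surjective g'
    have h3 : (e - X - (X ^ 2 - X) * g).map (Ideal.Quotient.mk I) = 0 := by
      rw [Polynomial.map_sub, hg']
      simp only [Polynomial.map_mul, Polynomial.map_sub, Polynomial.map_pow, Polynomial.map_X]
      ring
    have h4 : C (t ^ m) ∣ (e - X - (X ^ 2 - X) * g) := by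
      rw [C_dvd_iff_dvd_coeff]
      intro i
      have := congrArg (fun p => coeff p i) h3
      simp only [coeff_map, coeff_zero, Ideal.Quotient.eq_zero_iff_mem] at this
      exact Ideal.mem_span_singleton.mp this
    obtain ⟨h, hh⟩ := h4
    exact ⟨g, h, by rw [← hh]; ring⟩
  obtain ⟨g, h, hgh⟩ := hcomb
  have h1 : aeval x e - x = t ^ m • (Y.map (algebraMap A At) * aeval x g + aeval x h) := by
    have := congrArg (aeval x) hgh
    rw [map_sub, aeval_X, map_add, map_mul, map_mul, aeval_C, map_sub, map_pow, aeval_X, sq, hY, smul_mul_assoc,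
      ← Algebra.smul_def, ← smul_add] at this
    exact this
  have h2 : t ^ c • (Y.map (algebraMap A At) * aeval x g + aeval x h) ∈ lat A At n := by
    rw [smul_add, ← mul_smul_comm]
    exact add_mem (mul_mem (mem_lat.mpr ⟨Y, rfl⟩) (aeval_mem t X₀ hx hY g)) (aeval_mem t X₀ hx hY h)
  obtain ⟨W, hW⟩ := mem_lat.mp h2
  refine ⟨W, hidem, ?_⟩
  rw [h1, hW, smul_comm]

end K730.IdemNear
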